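import Groth.Agent.AssSch12.Mult
import Groth.Agent.AssSch12.TensorAlg
import Mathlib.RingTheory.Localization.Module
import Mathlib.Algebra.Module.LocalizedModule.AtPrime

/-!
# Lengths of localizations, and associated primes of `M / tM`
-/

set_option autoImplicit false
set_option backward.isDefEq.respectTransparency false
set_option linter.style.haveILetI false

universe u

open IsLocalRing
open scoped TensorProduct

namespace Groth.Agent.EGA43.LengthSum

open Groth.Agent

/-- Lengths of localized modules do not depend on the chosen localization. -/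
theorem length_localization_unique {B N R' R'' M' M'' : Type u} [CommRing B] (T : Submonoid B)
    [AddCommGroup N] [Module B N]
    [CommRing R'] [Algebra B R'] [IsLocalization T R'] [CommRing R''] [Algebra B R''] [IsLocalization T R'']
    [AddCommGroup M'] [Module B M'] [Module R' M'] [IsScalarTower B R' M']
    [AddCommGroup M''] [Module B M''] [Module R'' M''] [IsScalarTower B R'' M'']
    (f' : N →ₗ[B] M') [IsLocalizedModule T f'] (f'' : N →ₗ[B] M'') [IsLocalizedModule T f''] :
    Module.length R' M' = Module.length R'' M'' := by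
  let e : R' ≃ₐ[B] R'' := IsLocalization.algEquiv T R' R''
  letI : Algebra R' R'' := e.toRingEquiv.toRingHom.toAlgebra
  letI : Module R' M'' := Module.compHom M'' e.toRingEquiv.toRingHom
  haveI : IsScalarTower R' R'' M'' := IsScalarTower.of_algebraMap_smul fun _ _ => rfl
  haveI : IsScalarTower B R' M'' := IsScalarTower.of_algebraMap_smul fun b m => by
    show e (algebraMap B R' b) • m = b • m
    rw [e.commutes, algebraMap_smul]
  rw [← Module.length_eq_of_surjective (S := R') (R := R'') (M := M'') e.surjective]
  let φ : M' ≃ₗ[B] M'' := IsLocalizedModule.linearEquiv T f' f''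
  exact (LinearEquiv.ofBijective (φ.toLinearMap.extendScalarsOfIsLocalization T R') φ.bijective).length_eq

variable {R M : Type u} [CommRing R] [IsNoetherianRing R] [IsLocalRing R] [AddCommGroup M] [Module R M] [Module.Finite R M]

/-- Over `t` regular, a prime of the module minimal over which `t` has only the closed point produces the closed
point as an associated prime of `M / tM` (EGA IV 3.4.3). -/
theorem killed_quotient_of_isAssociatedPrime {t : R} (htm : t ∈ maximalIdeal R)
    (ht : IsSMulRegular M t) {p : Ideal R} (hp : p ∈ associatedPrimes R M)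
    (hpt : ∀ q : Ideal R, q.IsPrime → p ≤ q → t ∈ q → q = maximalIdeal R) :
    ∃ z : M, z ∉ Ideal.span {t} • (⊤ : Submodule R M) ∧
      ∀ b ∈ maximalIdeal R, b • z ∈ Ideal.span {t} • (⊤ : Submodule R M) := by
  obtain ⟨hpp, x, hx⟩ := isAssociatedPrime_iff.1 hp
  have hmem : ∀ w : M, w ∈ Ideal.span {t} • (⊤ : Submodule R M) ↔ ∃ y, t • y = w := fun w => by
    rw [Submodule.ideal_span_singleton_smul, Submodule.mem_smul_pointwise_iff_exists]
    simp
  let L : Submodule R M :=
    { carrier := {m | ∀ a ∈ p, a • m = 0}
      zero_mem' := fun a _ => smul_zero a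
      add_mem' := fun hu hv a ha => by rw [smul_add, hu a ha, hv a ha, add_zero]
      smul_mem' := fun c m hm a ha => by rw [smul_comm, hm a ha, smul_zero] }
  have hxL : x ∈ L := fun a ha => by
    rw [hx] at ha
    simpa [Submodule.mem_colon_singleton] using ha
  have hx0 : x ≠ 0 := fun h => hpp.ne_top (by rw [hx, h]; exact Ideal.eq_top_of_isUnit_mem _ (x := 1) (by simp [Submodule.mem_colon_singleton]) isUnit_one)
  -- some element of `L` is not in `t • M`
  have hne : ∃ z ∈ L, z ∉ Ideal.span {t} • (⊤ : Submodule R M) := by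
    by_contra! H
    have hL : L ≤ Ideal.span {t} • L := fun z hz => by
      obtain ⟨y, rfl⟩ := (hmem z).1 (H z hz)
      refine Submodule.smul_mem_smul (Ideal.mem_span_singleton_self t) fun a ha => ht.right_eq_zero_of_smul ?_
      rw [smul_comm, hz a ha]
    have := Submodule.eq_bot_of_le_smul_of_le_jacobson_bot _ L (IsNoetherian.noetherian L) hL
      (((Ideal.span_singleton_le_iff_mem (maximalIdeal R)).2 htm).trans (IsLocalRing.maximalIdeal_le_jacobson _))
    exact hx0 ((Submodule.eq_bot_iff _).1 this x hxL)
  obtain ⟨z, hzL, hz⟩ := hne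
  obtain ⟨n, hn⟩ := Ideal.exists_pow_le_of_le_radical_of_fg (I := maximalIdeal R) (J := p ⊔ Ideal.span {t})
    (by
      rw [Ideal.radical_eq_sInf]
      refine le_sInf fun q hq => (hpt q hq.2 (le_sup_left.trans hq.1)
        (hq.1 (Ideal.mem_sup_right (Ideal.mem_span_singleton_self t)))).ge)
    (IsNoetherian.noetherian _)
  have hkill : ∀ b ∈ maximalIdeal R ^ n, b • z ∈ Ideal.span {t} • (⊤ : Submodule R M) := fun b hb => by
    obtain ⟨a, ha, c, hc, rfl⟩ := Submodule.mem_sup.1 (hn hb)
    rw [add_smul, hzL a ha, zero_add]
    exact Submodule.smul_mem_smul hc trivial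
  clear hn
  induction n generalizing z with
  | zero => exact absurd (by simpa using hkill 1 (by simp)) hz
  | succ n ih =>
    by_cases h : ∀ b ∈ maximalIdeal R ^ n, b • z ∈ Ideal.span {t} • (⊤ : Submodule R M)
    · exact ih z hzL hz h
    · push_neg at h
      obtain ⟨b, hb, hbz⟩ := h
      exact ⟨b • z, hbz, fun a ha => by
        rw [← mul_smul]
        exact hkill _ (pow_succ' (maximalIdeal R) n ▸ Ideal.mul_mem_mul ha hb)⟩

/-- The sum of the generic lengths is at most the length modulo a regular parameter. -/
theorem sum_locLen_le {I : Ideal R} {t : R} (D : AssSch12.DimOne I t) (hI : I ≤ Module.annihilator R M)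
    {ι : Type*} (s : Finset ι) (P : ι → Ideal R) (hP : ∀ i ∈ s, P i ∈ I.minimalPrimes)
    (hinj : Set.InjOn P s) (len : ι → ℕ∞)
    (hlen : ∀ i (h : i ∈ s), haveI : (P i).IsPrime := (hP i h).isPrime; len i = AssSch12.locLen M (P i)) :
    ∑ i ∈ s, len i ≤ Module.length R (M ⧸ (Ideal.span {t} • (⊤ : Submodule R M))) := by
  classical
  haveI : Finite I.minimalPrimes := (Ideal.finite_minimalPrimes_of_isNoetherianRing R I).to_subtype
  haveI := Fintype.ofFinite I.minimalPrimes
  refine le_trans ?_ (D.sum_le_and_eq_iff M hI).1
  rw [finsum_eq_sum_of_fintype]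
  let φ : s → I.minimalPrimes := fun i => ⟨P i, hP i i.2⟩
  have hφ : Function.Injective φ := fun a b h => Subtype.ext (hinj a.2 b.2 (congrArg Subtype.val h))
  rw [← Finset.sum_attach, show s.attach = (Finset.univ : Finset s) from rfl]
  calc ∑ i : s, len i = ∑ q ∈ Finset.univ.image φ, (haveI : q.1.IsPrime := q.2.isPrime; AssSch12.locLen M q.1) := by
        rw [Finset.sum_image hφ.injOn]
        exact Finset.sum_congr rfl fun i _ => hlen i i.2
    _ ≤ _ := Finset.sum_le_sum_of_subset (Finset.subset_univ _)

end Groth.Agent.EGA43.LengthSum
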