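import Groth.Agent.EGA43.LengthSum.Algebra
import Groth.Agent.EGA43.ProperDvr.Rational
import Groth.Agent.AssSch12.MaxSupport
import Groth.Agent.EGA43.QcohFP
import Groth.Agent.EGA43.DimFormula.Sub
import Groth.Agent.EGA43.Chevalley.Fibre
import Groth.Agent.Coherent.FiniteType
import Groth.Agent.EGA43.InjFibre.Scheme
import Groth.Agent.EGA43.ProperDvr.Submersive
import Mathlib.RingTheory.Ideal.AssociatedPrime.Localization

/-!
# Lengths along the fibres of a flat proper module over a discrete valuation ring (EGA IV 12.2 / 15)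
-/

set_option autoImplicit false
set_option backward.isDefEq.respectTransparency false
set_option linter.style.haveILetI false

universe u

open CategoryTheory CategoryTheory.Limits AlgebraicGeometry TopologicalSpace IsLocalRing Opposite

namespace Groth.Agent.EGA43.LengthSum

open Groth.Agent Groth.Agent.AssSch12 Groth.Agent.QCohLoc

variable {A : Type u} [CommRing A] [IsDomain A] [IsDiscreteValuationRing A] {X : Scheme.{u}}
  (f : X ⟶ Spec (CommRingCat.of A)) (F : X.Modules)

theorem eq_closed_or_generic (y : ↥(Spec (CommRingCat.of A))) :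
    y = closedPoint A ∨ y = genericPoint (Spec (CommRingCat.of A)) := ProperDvr.eq_closedPoint_or_generic y

/-- The parameter upstairs. -/
noncomputable def param (ϖ : A) : Γ(X, ⊤) := f.appTop ((Scheme.ΓSpecIso (CommRingCat.of A)).inv ϖ)

theorem primeAt_top_iff (ϖ : A) (y : ↥(Spec (CommRingCat.of A))) (r : A) :
    (Scheme.ΓSpecIso (CommRingCat.of A)).inv r ∈ primeAt (U := ⊤) (isAffineOpen_top _) (x := y) trivial ↔
      r ∈ (y : PrimeSpectrum A).asIdeal := by
  rw [mem_primeAt_iff, basicOpen_eq_of_affine]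
  exact not_not

/-- The maximal ideal of the base at a point, upstairs. -/
theorem map_maximalIdeal_stalk {ϖ : A} (y : ↥(Spec (CommRingCat.of A))) (hy : (y : PrimeSpectrum A).asIdeal = Ideal.span {ϖ})
    (x : X) (hx : f x = y) :
    Ideal.map (f.stalkMap x).hom (maximalIdeal ((Spec (CommRingCat.of A)).presheaf.stalk (f x))) =
      Ideal.span {X.presheaf.germ ⊤ x trivial (param f ϖ)} := by
  subst hx
  rw [maximalIdeal_eq_map_primeAt (isAffineOpen_top _) (trivial : f x ∈ (⊤ : (Spec (CommRingCat.of A)).Opens)),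
    show primeAt (isAffineOpen_top _) (trivial : f x ∈ (⊤ : (Spec (CommRingCat.of A)).Opens)) =
      Ideal.span {(Scheme.ΓSpecIso (CommRingCat.of A)).inv ϖ} from ?_, Ideal.map_map, Ideal.map_span,
    Set.image_singleton]
  · congr 2
    exact Scheme.Hom.germ_stalkMap_apply f ⊤ x trivial _
  · ext r
    obtain ⟨r, rfl⟩ := (Scheme.ΓSpecIso (CommRingCat.of A)).commRingCatIsoToRingEquiv.symm.surjective r
    show (Scheme.ΓSpecIso (CommRingCat.of A)).inv r ∈ _ ↔ (Scheme.ΓSpecIso (CommRingCat.of A)).inv r ∈ _
    rw [primeAt_top_iff ϖ, hy, Ideal.mem_span_singleton, Ideal.mem_span_singleton]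
    exact (map_dvd_iff (Scheme.ΓSpecIso (CommRingCat.of A)).commRingCatIsoToRingEquiv.symm).symm

theorem asIdeal_closedPoint {ϖ : A} (hϖ : Irreducible ϖ) :
    (closedPoint A : PrimeSpectrum A).asIdeal = Ideal.span {ϖ} := hϖ.maximalIdeal_eq

theorem asIdeal_genericPoint :
    (genericPoint (Spec (CommRingCat.of A)) : PrimeSpectrum A).asIdeal = Ideal.span {0} := by
  rw [ProperDvr.genericPoint_spec_eq]
  simp

theorem mem_maximalIdeal_iff {ϖ : A} (hϖ : Irreducible ϖ) (x : X) :
    X.presheaf.germ ⊤ x trivial (param f ϖ) ∈ maximalIdeal (X.presheaf.stalk x) ↔ f x = closedPoint A := by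
  rw [germ_mem_maximalIdeal_iff_notMem, param, ← Scheme.preimage_basicOpen_top, basicOpen_eq_of_affine]
  show ¬ ϖ ∉ (f x : PrimeSpectrum A).asIdeal ↔ _
  rw [not_not]
  constructor
  · intro h
    rcases eq_closed_or_generic (f x) with h1 | h1
    · exact h1
    · rw [h1, asIdeal_genericPoint, Ideal.mem_span_singleton, zero_dvd_iff] at h
      exact absurd h hϖ.ne_zero
  · intro h
    rw [h, asIdeal_closedPoint hϖ]
    exact Ideal.mem_span_singleton_self ϖ
where
  germ_mem_maximalIdeal_iff_notMem {X : Scheme.{u}} {x : X} {r : Γ(X, ⊤)} :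
      X.presheaf.germ ⊤ x trivial r ∈ maximalIdeal (X.presheaf.stalk x) ↔ x ∉ X.basicOpen r := by
    rw [IsLocalRing.mem_maximalIdeal, mem_nonunits_iff, Scheme.mem_basicOpen X r x trivial]

theorem isSMulRegular_param (hflat : FlatMod.IsFlatOver f F) {ϖ : A} (hϖ : ϖ ≠ 0) (x : X) :
    IsSMulRegular (F.presheaf.stalk x) (X.presheaf.germ ⊤ x trivial (param f ϖ)) := by
  letI := (f.stalkMap x).hom.toAlgebra
  letI := FlatMod.moduleStalkOver f F x
  haveI : IsScalarTower ((Spec (CommRingCat.of A)).presheaf.stalk (f x)) (X.presheaf.stalk x) (F.presheaf.stalk x) :=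
    IsScalarTower.of_compHom _ _ _
  haveI : Module.Flat ((Spec (CommRingCat.of A)).presheaf.stalk (f x)) (F.presheaf.stalk x) := hflat x
  let g := (Spec (CommRingCat.of A)).presheaf.germ ⊤ (f x) trivial ((Scheme.ΓSpecIso (CommRingCat.of A)).inv ϖ)
  haveI : IsDomain (CommRingCat.of A) := ‹IsDomain A›
  have hg : g ≠ 0 := fun h => hϖ (by
    have h1 := germ_injective_of_isIntegral (Spec (CommRingCat.of A)) (f x) (U := ⊤) trivial (h.trans (map_zero _).symm)
    simpa using congrArg (Scheme.ΓSpecIso (CommRingCat.of A)).hom h1)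
  have h1 : IsSMulRegular ((Spec (CommRingCat.of A)).presheaf.stalk (f x)) g :=
    fun a b hab => mul_left_cancel₀ hg hab
  have h2 : IsSMulRegular (F.presheaf.stalk x) g :=
    ((TensorProduct.rid ((Spec (CommRingCat.of A)).presheaf.stalk (f x)) (F.presheaf.stalk x)).isSMulRegular_congr g).1
      (h1.lTensor (F.presheaf.stalk x))
  intro a b hab
  refine h2 ?_
  show g • a = g • b
  rw [← IsScalarTower.algebraMap_smul (X.presheaf.stalk x) g a, ← IsScalarTower.algebraMap_smul (X.presheaf.stalk x) g b]
  convert hab using 3 <;> exact Scheme.Hom.germ_stalkMap_apply f ⊤ x trivial _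

/-- Lengths on a fibre, computed upstairs. -/
theorem fibLen_eq {ϖ : A} (x : X) (hx : (f x : PrimeSpectrum A).asIdeal = Ideal.span {ϖ}) :
    fibLen f x F = Module.length (X.presheaf.stalk x) (F.presheaf.stalk x ⧸
      (Ideal.span {X.presheaf.germ ⊤ x trivial (param f ϖ)} • (⊤ : Submodule (X.presheaf.stalk x) (F.presheaf.stalk x)))) := by
  obtain ⟨g⟩ := fib_equiv f x F
  refine g.length_eq.trans ?_
  rw [map_maximalIdeal_stalk f (f x) hx x rfl]

theorem fibLen_generic (x : X) (hx : f x = genericPoint (Spec (CommRingCat.of A))) :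
    fibLen f x F = Module.length (X.presheaf.stalk x) (F.presheaf.stalk x) := by
  rw [fibLen_eq f F (ϖ := 0) x (hx ▸ asIdeal_genericPoint)]
  refine (Submodule.quotEquivOfEqBot _ ?_).length_eq
  simp [param]

variable [IsLocallyNoetherian X]

omit [IsDomain A] [IsDiscreteValuationRing A] in
/-- A point of the fibre has non zero stalk iff the stalk upstairs is non zero. -/
theorem nontrivial_fiber_iff (hF : Coh.IsCoh F) (y : ↥(Spec (CommRingCat.of A))) (v : ↥(f.fiber y)) :
    Nontrivial (((Scheme.Modules.pullback (f.fiberι y)).obj F).presheaf.stalk v) ↔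
      Nontrivial (F.presheaf.stalk (f.fiberι y v)) := by
  set x := f.fiberι y v
  haveI := finite_stalk hF x
  rw [← Module.length_pos_iff (R := (f.fiber y).presheaf.stalk v), length_fiber f F y v]
  obtain ⟨g⟩ := fib_equiv f x F
  rw [show fibLen f x F = _ from g.length_eq, Module.length_pos_iff, Submodule.Quotient.nontrivial_iff]
  constructor
  · intro h
    by_contra hc
    haveI := not_nontrivial_iff_subsingleton.1 hc
    exact h (Subsingleton.elim _ _)
  · intro hn h
    refine top_ne_bot (α := Submodule (X.presheaf.stalk x) (F.presheaf.stalk x))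
      (Submodule.eq_bot_of_le_smul_of_le_jacobson_bot _ ⊤ Module.Finite.fg_top h.ge
        (((Ideal.map_le_iff_le_comap (K := maximalIdeal (X.presheaf.stalk x))).2
          fun r hr => map_nonunit (f.stalkMap x).hom r hr).trans (IsLocalRing.maximalIdeal_le_jacobson _)))

/-- The support of a coherent module is stable under specialization. -/
theorem nontrivial_of_specializes (hF : Coh.IsCoh F) {a b : X} (h : a ⤳ b) (ha : Nontrivial (F.presheaf.stalk a)) :
    Nontrivial (F.presheaf.stalk b) := by
  haveI := hF.1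
  obtain ⟨_, ⟨U, hU, rfl⟩, hbU, -⟩ :=
    X.isBasis_affineOpens.exists_subset_of_mem_open (Set.mem_univ b) isOpen_univ
  by_contra hc
  haveI := not_nontrivial_iff_subsingleton.1 hc
  have haU := h.mem_open U.isOpen hbU
  refine not_subsingleton_iff_nontrivial.2 ha (subsingleton_of_forall_eq 0 fun z => ?_)
  obtain ⟨g, m, hg, hm⟩ := exists_smul_stalk_eq_germ F hU haU z
  obtain ⟨k, hk, hkm⟩ := exists_smul_eq_zero_of_germ F hU hbU m (Subsingleton.elim _ _)
  rw [germ_eq_zero_of_smul_eq_zero haU F (h.mem_open (X.basicOpen k).isOpen hk) hkm] at hm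
  exact ((Scheme.mem_basicOpen _ _ _ haU).1 hg).smul_eq_zero.1 hm

/-- `a` is a maximal point of the support within its fibre. -/
def IsFibMax (a : X) : Prop :=
  Nontrivial (F.presheaf.stalk a) ∧ ∀ w, w ⤳ a → f w = f a → Nontrivial (F.presheaf.stalk w) → w = a

omit [IsDomain A] [IsDiscreteValuationRing A] in
theorem isFibMax_iff (hF : Coh.IsCoh F) (y : ↥(Spec (CommRingCat.of A))) (v : ↥(f.fiber y)) :
    (Nontrivial (((Scheme.Modules.pullback (f.fiberι y)).obj F).presheaf.stalk v) ∧
      ∀ w : ↥(f.fiber y), Nontrivial (((Scheme.Modules.pullback (f.fiberι y)).obj F).presheaf.stalk w) →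
        v ∈ closure {w} → w = v) ↔ IsFibMax f F (f.fiberι y v) := by
  have hf : ∀ q, f (f.fiberι y q) = y := fun q => (f.range_fiberι y).le ⟨q, rfl⟩
  rw [nontrivial_fiber_iff f F hF]
  refine and_congr_right fun _ => ⟨fun h w hw he hn => ?_, fun h w hn hw => ?_⟩
  · obtain ⟨w', rfl⟩ := (f.range_fiberι y).ge (he.trans (hf v))
    rw [h w' ((nontrivial_fiber_iff f F hF y w').2 hn)
      ((f.fiberι y).isEmbedding.isInducing.specializes_iff.1 hw).mem_closure]
  · exact (f.fiberι y).isEmbedding.injective (h _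
      ((specializes_iff_mem_closure.2 hw).map (f.fiberι y).continuous) ((hf w).trans (hf v).symm)
      ((nontrivial_fiber_iff f F hF y w).1 hn))

/-- A maximal point of the generic fibre has a maximal point of the closed fibre among its specializations. -/
theorem exists_specialization [IsProper f] (hF : Coh.IsCoh F) (hflat : FlatMod.IsFlatOver f F)
    (hemb : AssSch.NoEmbedded ((Scheme.Modules.pullback (f.fiberι (closedPoint A))).obj F))
    {a : X} (ha : IsFibMax f F a) (hae : f a = genericPoint (Spec (CommRingCat.of A))) :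
    ∃ b, a ⤳ b ∧ f b = closedPoint A ∧ IsFibMax f F b := by
  obtain ⟨x₀, hx₀, hx₀c⟩ := f.isClosedMap.specializingMap (a := a) (b := closedPoint A)
    (hae ▸ genericPoint_specializes _)
  obtain ⟨Z, i, hi, hint, hr, hgen⟩ := DimFormula.exists_integral_subscheme a
  obtain ⟨w₀, hw₀⟩ : x₀ ∈ Set.range i := hr.ge hx₀.mem_closure
  obtain ⟨w, hw, hwe, hwmax⟩ := Chevalley.exists_maximal_in_fibre (i ≫ f) w₀
  let b := i w
  have hab : a ⤳ b := specializes_iff_mem_closure.2 (hr.le ⟨w, rfl⟩)
  have hbc : f b = closedPoint A := by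
    refine hwe.trans ?_
    show f (i w₀) = _
    rw [hw₀]; exact hx₀c
  have hbmin : ∀ v, a ⤳ v → v ⤳ b → f v = closedPoint A → v = b := fun v h1 h2 h3 => by
    obtain ⟨v', rfl⟩ := hr.ge h1.mem_closure
    refine congrArg i (hwmax v' (i.isEmbedding.isInducing.specializes_iff.1 h2) ?_)
    exact h3.trans (hbc.symm.trans hwe)
  refine ⟨b, hab, hbc, ?_⟩
  have hFib : FibKilled f b F := by
    haveI := hF.1
    haveI := finite_stalk hF b
    obtain ⟨ϖ, hϖ⟩ := IsDiscreteValuationRing.exists_irreducible A
    obtain ⟨_, ⟨U, hU, rfl⟩, hbU, -⟩ :=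
      X.isBasis_affineOpens.exists_subset_of_mem_open (Set.mem_univ b) isOpen_univ
    haveI := isNoetherianRing_of_isAffineOpen hU
    letI := TopCat.Presheaf.algebra_section_stalk X.presheaf (⟨b, hbU⟩ : U)
    haveI := hU.isLocalization_stalk ⟨b, hbU⟩
    haveI : IsNoetherianRing (X.presheaf.stalk b) :=
      IsLocalization.isNoetherianRing (primeAt hU hbU).primeCompl _ inferInstance
    have hmem := (mem_maximalIdeal_iff f hϖ b).2 hbc
    have haU := hab.mem_open U.isOpen hbU
    have hle : primeAt hU haU ≤ primeAt hU hbU := (specializes_iff hU haU hbU).1 hab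
    let p : Ideal (X.presheaf.stalk b) := (primeAt hU haU).map (X.presheaf.germ U b hbU).hom
    have hdisj : Disjoint ((primeAt hU hbU).primeCompl : Set Γ(X, U)) (primeAt hU haU : Set Γ(X, U)) :=
      Set.disjoint_left.2 fun r hr h => hr (hle h)
    haveI : p.IsPrime :=
      IsLocalization.isPrime_of_isPrime_disjoint (primeAt hU hbU).primeCompl (X.presheaf.stalk b) _ inferInstance hdisj
    have hpc : p.comap (X.presheaf.germ U b hbU).hom = primeAt hU haU :=
      IsLocalization.under_map_of_isPrime_disjoint (primeAt hU hbU).primeCompl (X.presheaf.stalk b) inferInstance hdisj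
    have haA : a ∈ AssSch.Ass F := ((ass_max_iff F hF.1 a).2 ⟨ha.1, fun w hw hwa => ha.2 w hwa (by
      rw [hae]; exact ((hwa.map f.continuous).trans (specializes_of_eq hae)).antisymm (genericPoint_specializes _) |>.eq) hw⟩).1
    letI : Module Γ(X, U) (F.presheaf.stalk b) := Module.compHom _ (X.presheaf.germ U b hbU).hom
    haveI : IsScalarTower Γ(X, U) (X.presheaf.stalk b) (F.presheaf.stalk b) :=
      IsScalarTower.of_algebraMap_smul fun _ _ => rfl
    let φ : Γ(F, U) →ₗ[Γ(X, U)] F.presheaf.stalk b :=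
      { toFun := fun m => F.presheaf.germ U b hbU m
        map_add' := fun a b => map_add _ a b
        map_smul' := fun r m => QCohLoc.germ_smul' F hbU r m }
    haveI := QcohFP.isLocalizedModule_germ F hU hbU φ fun _ => rfl
    have hpass : p ∈ associatedPrimes (X.presheaf.stalk b) (F.presheaf.stalk b) := by
      refine Module.associatedPrimes.mem_associatedPrimes_of_comap_mem_associatedPrimes_of_isLocalizedModule
        (primeAt hU hbU).primeCompl φ p ?_
      exact hpc.symm ▸ (mem_ass_iff hU haU F).1 haA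
    rw [fibKilled_iff, map_maximalIdeal_stalk f (closedPoint A) (asIdeal_closedPoint hϖ) b hbc]
    refine killed_quotient_of_isAssociatedPrime hmem (isSMulRegular_param f F hflat hϖ.ne_zero b) hpass
      fun q hq hpq htq => ?_
    obtain ⟨v, hv, hvq⟩ := exists_point hU (q.comap (X.presheaf.germ U b hbU).hom) (hq := hq.comap _)
    have h1 : a ⤳ v := (specializes_iff hU haU hv).2 (by rw [hvq, ← hpc]; exact Ideal.comap_mono hpq)
    have h2 : v ⤳ b := (specializes_iff hU hv hbU).2 (by
      rw [hvq]
      intro r hr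
      rw [← germ_mem_maximalIdeal_iff hU hbU]
      exact le_maximalIdeal hq.ne_top hr)
    have h3 : f v = closedPoint A := by
      rw [← mem_maximalIdeal_iff f hϖ v]
      have : X.presheaf.map (homOfLE (le_top : U ≤ ⊤)).op (param f ϖ) ∈ primeAt hU hv := by
        rw [hvq, Ideal.mem_comap, TopCat.Presheaf.germ_res_apply]
        exact htq
      rw [← germ_mem_maximalIdeal_iff hU hv, TopCat.Presheaf.germ_res_apply] at this
      exact this
    obtain rfl := hbmin v h1 h2 h3
    rw [← IsLocalization.map_comap (primeAt hU hv).primeCompl (X.presheaf.stalk b) q, maximalIdeal_eq_map_primeAt hU hv, hvq]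
    rfl
  obtain ⟨v, hv⟩ : b ∈ Set.range (f.fiberι (closedPoint A)) := (f.range_fiberι _).ge hbc
  haveI : LocallyOfFiniteType (f.fiberToSpecResidueField (closedPoint A)) :=
    inferInstanceAs (LocallyOfFiniteType (pullback.snd f ((Spec (CommRingCat.of A)).fromSpecResidueField (closedPoint A))))
  haveI : IsLocallyNoetherian (f.fiber (closedPoint A)) :=
    LocallyOfFiniteType.isLocallyNoetherian (f.fiberToSpecResidueField (closedPoint A))
  haveI := hF.1
  have hQ : Coh.IsQCoh ((Scheme.Modules.pullback (f.fiberι (closedPoint A))).obj F) := InjFibre.isQCoh_pullback _ F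
  have hvA := (mem_ass_fiber_iff f F (closedPoint A) v).2 (hv.symm ▸ hFib)
  have hvmax := (ass_max_iff _ hQ v).1 ⟨hvA, fun w hw hwv => (hemb v hvA w hw hwv).symm⟩
  rw [← hv, ← isFibMax_iff f F hF]
  exact ⟨hvmax.1, fun w hw hvw => hvmax.2 w hw (specializes_iff_mem_closure.2 hvw)⟩

/-- The lengths of the maximal generic points specializing to `b` add up to at most the length at `b`. -/
theorem sum_fibLen_le (hF : Coh.IsCoh F) (hflat : FlatMod.IsFlatOver f F) {b : X} (hb : IsFibMax f F b)
    (hbc : f b = closedPoint A) (s : Finset X)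
    (hs : ∀ a ∈ s, IsFibMax f F a ∧ f a = genericPoint (Spec (CommRingCat.of A)) ∧ a ⤳ b) :
    ∑ a ∈ s, fibLen f a F ≤ fibLen f b F := by
  classical
  haveI := hF.1
  haveI := finite_stalk hF b
  obtain ⟨ϖ, hϖ⟩ := IsDiscreteValuationRing.exists_irreducible A
  obtain ⟨_, ⟨U, hU, rfl⟩, hbU, -⟩ :=
    X.isBasis_affineOpens.exists_subset_of_mem_open (Set.mem_univ b) isOpen_univ
  haveI := isNoetherianRing_of_isAffineOpen hU
  letI := TopCat.Presheaf.algebra_section_stalk X.presheaf (⟨b, hbU⟩ : U)
  haveI := hU.isLocalization_stalk ⟨b, hbU⟩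
  haveI : IsNoetherianRing (X.presheaf.stalk b) :=
    IsLocalization.isNoetherianRing (primeAt hU hbU).primeCompl _ inferInstance
  letI : Module Γ(X, U) (F.presheaf.stalk b) := Module.compHom _ (X.presheaf.germ U b hbU).hom
  haveI : IsScalarTower Γ(X, U) (X.presheaf.stalk b) (F.presheaf.stalk b) :=
    IsScalarTower.of_algebraMap_smul fun _ _ => rfl
  let φ : Γ(F, U) →ₗ[Γ(X, U)] F.presheaf.stalk b :=
    { toFun := fun m => F.presheaf.germ U b hbU m
      map_add' := fun a b => map_add _ a b
      map_smul' := fun r m => QCohLoc.germ_smul' F hbU r m }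
  haveI := QcohFP.isLocalizedModule_germ F hU hbU φ fun _ => rfl
  -- the localization of `F_b` at a prime gives the stalk at the corresponding point
  have key : ∀ (q : Ideal (X.presheaf.stalk b)) [q.IsPrime] (v : X) (hv : v ∈ U),
      primeAt hU hv = q.comap (X.presheaf.germ U b hbU).hom →
      Module.length (X.presheaf.stalk v) (F.presheaf.stalk v) = locLen (F.presheaf.stalk b) q := by
    intro q _ v hv hvq
    letI := TopCat.Presheaf.algebra_section_stalk X.presheaf (⟨v, hv⟩ : U)
    haveI := hU.isLocalization_stalk ⟨v, hv⟩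
    letI : Module Γ(X, U) (F.presheaf.stalk v) := Module.compHom _ (X.presheaf.germ U v hv).hom
    haveI : IsScalarTower Γ(X, U) (X.presheaf.stalk v) (F.presheaf.stalk v) :=
      IsScalarTower.of_algebraMap_smul fun _ _ => rfl
    let ψ : Γ(F, U) →ₗ[Γ(X, U)] F.presheaf.stalk v :=
      { toFun := fun m => F.presheaf.germ U v hv m
        map_add' := fun a b => map_add _ a b
        map_smul' := fun r m => QCohLoc.germ_smul' F hv r m }
    haveI := QcohFP.isLocalizedModule_germ F hU hv ψ fun _ => rfl
    haveI hloc : IsLocalization.AtPrime (Localization.AtPrime q) (q.comap (X.presheaf.germ U b hbU).hom) :=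
      IsLocalization.isLocalization_isLocalization_atPrime_isLocalization (primeAt hU hbU).primeCompl _ q
    haveI : IsLocalization (primeAt hU hv).primeCompl (Localization.AtPrime q) := by
      have h : (primeAt hU hv).primeCompl = (q.comap (X.presheaf.germ U b hbU).hom).primeCompl := by
        ext r; exact not_congr (by rw [hvq])
      rw [h]; exact hloc
    let χ : Γ(F, U) →ₗ[Γ(X, U)] LocalizedModule q.primeCompl (F.presheaf.stalk b) :=
      ((LocalizedModule.mkLinearMap q.primeCompl (F.presheaf.stalk b)).restrictScalars Γ(X, U)).comp φ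
    haveI : IsLocalizedModule (primeAt hU hv).primeCompl χ :=
      (isLocalizedModule_iff_isBaseChange _ (Localization.AtPrime q) χ).2
        (((isLocalizedModule_iff_isBaseChange (primeAt hU hbU).primeCompl (X.presheaf.stalk b) φ).1 inferInstance).comp
          ((isLocalizedModule_iff_isBaseChange q.primeCompl (Localization.AtPrime q) _).1 inferInstance))
    exact length_localization_unique (primeAt hU hv).primeCompl ψ χ
  let I := Module.annihilator (X.presheaf.stalk b) (F.presheaf.stalk b)
  let t := X.presheaf.germ ⊤ b trivial (param f ϖ)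
  -- primes over the annihilator
  have hpoint : ∀ q : Ideal (X.presheaf.stalk b), q.IsPrime → I ≤ q → ∃ (v : X) (hv : v ∈ U),
      primeAt hU hv = q.comap (X.presheaf.germ U b hbU).hom ∧ v ⤳ b ∧ Nontrivial (F.presheaf.stalk v) := by
    intro q hq hIq
    obtain ⟨v, hv, hvq⟩ := exists_point hU (q.comap (X.presheaf.germ U b hbU).hom) (hq := hq.comap _)
    refine ⟨v, hv, hvq, (specializes_iff hU hv hbU).2 ?_, ?_⟩
    · rw [hvq]
      intro r hr
      rw [← germ_mem_maximalIdeal_iff hU hbU]
      exact le_maximalIdeal hq.ne_top hr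
    · rw [← Module.length_pos_iff (R := X.presheaf.stalk v), key q v hv hvq]
      refine Module.length_pos_iff.2 ?_
      exact (Module.mem_support_iff_of_finite (p := (⟨q, hq⟩ : PrimeSpectrum (X.presheaf.stalk b)))).2 hIq
  have hreg := isSMulRegular_param f F hflat hϖ.ne_zero b
  haveI := hb.1
  have D : DimOne I t := by
    refine ⟨(mem_maximalIdeal_iff f hϖ b).2 hbc, fun q hq hIq htq => ?_, fun hmin => ?_⟩
    · obtain ⟨v, hv, hvq, hvb, hvn⟩ := hpoint q hq hIq
      have h3 : f v = closedPoint A := by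
        rw [← mem_maximalIdeal_iff f hϖ v]
        have : X.presheaf.map (homOfLE (le_top : U ≤ ⊤)).op (param f ϖ) ∈ primeAt hU hv := by
          rw [hvq, Ideal.mem_comap, TopCat.Presheaf.germ_res_apply]
          exact htq
        rw [← germ_mem_maximalIdeal_iff hU hv, TopCat.Presheaf.germ_res_apply] at this
        exact this
      obtain rfl := hb.2 v hvb (h3.trans hbc.symm) hvn
      rw [← IsLocalization.map_comap (primeAt hU hv).primeCompl (X.presheaf.stalk v) q, maximalIdeal_eq_map_primeAt hU hv, hvq]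
      rfl
    · obtain ⟨_, x, hx⟩ := isAssociatedPrime_iff.1
        (Module.associatedPrimes.minimalPrimes_annihilator_subset_associatedPrimes _ _ hmin)
      have h1 : t • x = 0 := by
        simpa [hx, Submodule.mem_colon_singleton] using (mem_maximalIdeal_iff f hϖ b).2 hbc
      have hx0 : x = 0 := hreg.right_eq_zero_of_smul h1
      exact (maximalIdeal.isMaximal _).ne_top (hx.trans (by simp [hx0]))
  rw [fibLen_eq f F b (hbc.symm ▸ asIdeal_closedPoint hϖ)]
  let P : X → Ideal (X.presheaf.stalk b) := fun a =>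
    if h : a ⤳ b then (primeAt hU (h.mem_open U.isOpen hbU)).map (X.presheaf.germ U b hbU).hom else ⊤
  have hP : ∀ a (h : a ⤳ b), P a = (primeAt hU (h.mem_open U.isOpen hbU)).map (X.presheaf.germ U b hbU).hom :=
    fun a h => dif_pos h
  have hdisj : ∀ a (h : a ⤳ b), Disjoint ((primeAt hU hbU).primeCompl : Set Γ(X, U))
      (primeAt hU (h.mem_open U.isOpen hbU) : Set Γ(X, U)) := fun a h =>
    Set.disjoint_left.2 fun r hr h' => hr ((specializes_iff hU _ hbU).1 h h')
  have hPprime : ∀ a, a ⤳ b → (P a).IsPrime := fun a h => by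
    rw [hP a h]
    exact IsLocalization.isPrime_of_isPrime_disjoint (primeAt hU hbU).primeCompl (X.presheaf.stalk b) _ inferInstance (hdisj a h)
  have hPc : ∀ a (h : a ⤳ b), (P a).comap (X.presheaf.germ U b hbU).hom = primeAt hU (h.mem_open U.isOpen hbU) := fun a h => by
    rw [hP a h]
    exact IsLocalization.under_map_of_isPrime_disjoint (primeAt hU hbU).primeCompl (X.presheaf.stalk b) inferInstance (hdisj a h)
  have hmax : ∀ a ∈ s, ∀ v, v ⤳ a → Nontrivial (F.presheaf.stalk v) → v = a := fun a ha v hva hvn =>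
    (hs a ha).1.2 v hva (by
      rw [(hs a ha).2.1]
      exact ((hva.map f.continuous).trans (specializes_of_eq (hs a ha).2.1)).antisymm (genericPoint_specializes _) |>.eq) hvn
  refine sum_locLen_le (I := I) D le_rfl s P (fun a ha => ?_) (fun a ha a' ha' he => ?_) _ (fun a ha => ?_)
  · have hab := (hs a ha).2.2
    haveI := hPprime a hab
    have hn : Nontrivial (LocalizedModule (P a).primeCompl (F.presheaf.stalk b)) := by
      rw [← Module.length_pos_iff (R := Localization.AtPrime (P a)),
        show Module.length _ _ = locLen (F.presheaf.stalk b) (P a) from rfl,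
        ← key (P a) a (hab.mem_open U.isOpen hbU) (hPc a hab).symm]
      exact Module.length_pos_iff.2 (hs a ha).1.1
    refine ⟨⟨inferInstance, (Module.mem_support_iff_of_finite (p := (⟨P a, inferInstance⟩ : PrimeSpectrum (X.presheaf.stalk b)))).1 hn⟩,
      fun q hq hqP => ?_⟩
    obtain ⟨v, hv, hvq, -, hvn⟩ := hpoint q hq.1 hq.2
    have hva : v ⤳ a := (specializes_iff hU hv (hab.mem_open U.isOpen hbU)).2 (by
      rw [hvq, ← hPc a hab]; exact Ideal.comap_mono hqP)
    obtain rfl := hmax a ha v hva hvn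
    rw [← IsLocalization.map_comap (primeAt hU hbU).primeCompl (X.presheaf.stalk b) q,
      ← IsLocalization.map_comap (primeAt hU hbU).primeCompl (X.presheaf.stalk b) (P v)]
    exact (congrArg (Ideal.map _) ((hPc v hab).trans hvq)).le
  · have h1 := (hs a ha).2.2
    have h2 := (hs a' ha').2.2
    have h3 : primeAt hU (h1.mem_open U.isOpen hbU) = primeAt hU (h2.mem_open U.isOpen hbU) := by
      rw [← hPc a h1, ← hPc a' h2, he]
    exact (((specializes_iff hU _ _).2 h3.le).antisymm ((specializes_iff hU _ _).2 h3.ge)).eq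
  · have hab := (hs a ha).2.2
    haveI := hPprime a hab
    rw [fibLen_generic f F a (hs a ha).2.1]
    exact key (P a) a (hab.mem_open U.isOpen hbU) (hPc a hab).symm

omit [IsDomain A] [IsDiscreteValuationRing A] in
theorem finite_fibMax [IsProper f] (hF : Coh.IsCoh F) (y : ↥(Spec (CommRingCat.of A))) :
    {a : X | f a = y ∧ IsFibMax f F a}.Finite := by
  haveI : LocallyOfFiniteType (f.fiberToSpecResidueField y) :=
    inferInstanceAs (LocallyOfFiniteType (pullback.snd f ((Spec (CommRingCat.of A)).fromSpecResidueField y)))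
  haveI : QuasiCompact (f.fiberToSpecResidueField y) :=
    inferInstanceAs (QuasiCompact (pullback.snd f ((Spec (CommRingCat.of A)).fromSpecResidueField y)))
  haveI : IsLocallyNoetherian (f.fiber y) := LocallyOfFiniteType.isLocallyNoetherian (f.fiberToSpecResidueField y)
  haveI : CompactSpace ↥(f.fiber y) := QuasiCompact.compactSpace_of_compactSpace (f.fiberToSpecResidueField y)
  haveI : AlgebraicGeometry.IsNoetherian (f.fiber y) := {}
  let S : Set X := {x | Nontrivial (F.presheaf.stalk x)}
  let T : Set ↥(f.fiber y) := (f.fiberι y).base ⁻¹' S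
  obtain ⟨C, hCfin, hCcl, hCirr, hCT⟩ := NoetherianSpace.exists_finite_set_isClosed_irreducible
    (isClosed_closure (s := T))
  refine Set.Finite.subset ((hCfin.dependent_image fun c hc => f.fiberι y (hCirr c hc).genericPoint)) ?_
  rintro a ⟨hay, hna, hamax⟩
  obtain ⟨v, rfl⟩ := (f.range_fiberι y).ge hay
  have hv : v ∈ ⋃₀ C := hCT ▸ subset_closure hna
  obtain ⟨c, hc, hvc⟩ := hv
  refine ⟨c, hc, ?_⟩
  have hgp := (hCirr c hc).isGenericPoint_genericPoint (hCcl c hc)
  have hg : (hCirr c hc).genericPoint ∈ closure T := hCT ▸ ⟨c, hc, hgp.mem⟩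
  have hS : IsClosed S := by
    have : S = CohB1.support F := Set.ext fun x => not_subsingleton_iff_nontrivial.symm
    rw [this]
    exact Coherent.isClosed_support F (Coherent.locallyFinGen_of_isFT F hF.2)
  rw [(hS.preimage (f.fiberι y).continuous).closure_eq] at hg
  exact hamax _ ((hgp.specializes hvc).map (f.fiberι y).continuous)
    (((f.range_fiberι y).le ⟨_, rfl⟩ : f _ = y).trans hay.symm) hg

/-- EGA IV: the total length of the generic fibre is at most that of the closed fibre. -/
theorem sum_length_le [IsProper f] (hF : Coh.IsCoh F) (hflat : FlatMod.IsFlatOver f F)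
    (hemb : AssSch.NoEmbedded ((Scheme.Modules.pullback (f.fiberι (closedPoint A))).obj F)) :
    letI y : ↥(Spec (CommRingCat.of A)) := IsLocalRing.closedPoint A
    letI y' : ↥(Spec (CommRingCat.of A)) := genericPoint (Spec (CommRingCat.of A))
    ∑ᶠ z' : {v : ↥(f.fiber y') // Nontrivial (((Scheme.Modules.pullback (f.fiberι y')).obj F).presheaf.stalk v) ∧
        ∀ w : ↥(f.fiber y'), Nontrivial (((Scheme.Modules.pullback (f.fiberι y')).obj F).presheaf.stalk w) → v ∈ closure {w} → w = v},
        Module.length ((f.fiber y').presheaf.stalk z'.1) (((Scheme.Modules.pullback (f.fiberι y')).obj F).presheaf.stalk z'.1) ≤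
      ∑ᶠ z : {v : ↥(f.fiber y) // Nontrivial (((Scheme.Modules.pullback (f.fiberι y)).obj F).presheaf.stalk v) ∧
        ∀ w : ↥(f.fiber y), Nontrivial (((Scheme.Modules.pullback (f.fiberι y)).obj F).presheaf.stalk w) → v ∈ closure {w} → w = v},
        Module.length ((f.fiber y).presheaf.stalk z.1) (((Scheme.Modules.pullback (f.fiberι y)).obj F).presheaf.stalk z.1) := by
  classical
  simp only [length_fiber]
  -- reindex by points of `X`
  have hsum : ∀ y : ↥(Spec (CommRingCat.of A)),
      (∑ᶠ z : {v : ↥(f.fiber y) // Nontrivial (((Scheme.Modules.pullback (f.fiberι y)).obj F).presheaf.stalk v) ∧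
        ∀ w : ↥(f.fiber y), Nontrivial (((Scheme.Modules.pullback (f.fiberι y)).obj F).presheaf.stalk w) → v ∈ closure {w} → w = v},
        fibLen f (f.fiberι y z.1) F) = ∑ a ∈ (finite_fibMax f F hF y).toFinset, fibLen f a F := fun y => by
    rw [← finsum_mem_eq_finite_toFinset_sum _ (finite_fibMax f F hF y), ← finsum_set_coe_eq_finsum_mem]
    refine finsum_eq_of_bijective
      (fun z => (⟨f.fiberι y z.1, (f.range_fiberι y).le ⟨z.1, rfl⟩, (isFibMax_iff f F hF y z.1).1 z.2⟩ :
        {a : X | f a = y ∧ IsFibMax f F a})) ⟨fun z z' h => ?_, fun a => ?_⟩ (fun _ => rfl)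
    · exact Subtype.ext ((f.fiberι y).isEmbedding.injective (congrArg Subtype.val h))
    · obtain ⟨v, hv⟩ := (f.range_fiberι y).ge a.2.1
      exact ⟨⟨v, (isFibMax_iff f F hF y v).2 (hv.symm ▸ a.2.2)⟩, Subtype.ext hv⟩
  rw [hsum, hsum]
  set s := (finite_fibMax f F hF (genericPoint (Spec (CommRingCat.of A)))).toFinset with hs
  set r := (finite_fibMax f F hF (closedPoint A)).toFinset with hr
  have hmem : ∀ a ∈ s, f a = genericPoint (Spec (CommRingCat.of A)) ∧ IsFibMax f F a := fun a ha =>
    by simpa [hs] using ha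
  choose! β hβ using fun a (ha : a ∈ s) => exists_specialization f F hF hflat hemb (hmem a ha).2 (hmem a ha).1
  have hβr : ∀ a ∈ s, β a ∈ r := fun a ha => (Set.Finite.mem_toFinset _).2 ⟨(hβ a ha).2.1, (hβ a ha).2.2⟩
  rw [← Finset.sum_fiberwise_of_maps_to hβr]
  refine Finset.sum_le_sum fun b hb => ?_
  have hb' := (Set.Finite.mem_toFinset _).1 hb
  refine sum_fibLen_le f F hF hflat hb'.2 hb'.1 _ fun a ha => ?_
  obtain ⟨ha1, ha2⟩ := Finset.mem_filter.1 ha
  exact ⟨(hmem a ha1).2, (hmem a ha1).1, ha2 ▸ (hβ a ha1).1⟩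

end Groth.Agent.EGA43.LengthSum
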